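import Groth.Agent.Comodule.PrimUnip
import Mathlib

/-! Hopf ideals and saturation along a localisation. -/

set_option autoImplicit false
universe u

open TensorProduct

noncomputable section

namespace Groth.Agent.HopfSat

variable (R : Type u) [CommRing R] (K : Type u) [Field K] [Algebra R K]
  (A : Type u) [CommRing A] [HopfAlgebra R A]

local notation "incK" => (Algebra.TensorProduct.includeRight : A →ₐ[R] K ⊗[R] A)

/-- The base change of a Hopf ideal is a Hopf ideal. -/
theorem isHopfIdeal_map (J' : Ideal A) [J'.IsHopfIdeal R] : (J'.map incK).IsHopfIdeal K := by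
  let q : K ⊗[R] A →ₐc[K] K ⊗[R] (A ⧸ J') :=
    Bialgebra.TensorProduct.map (BialgHom.id K K) (Bialgebra.Quotient.mkBialgHom (R := R) J')
  let q' : K ⊗[R] A →ₐ[R] K ⊗[R] (A ⧸ J') := Algebra.TensorProduct.map (AlgHom.id R K) (Ideal.Quotient.mkₐ R J')
  have hq : ∀ z, q z = q' z := fun z => by
    induction z with
    | zero => simp
    | add a b ha hb => simp only [map_add, ha, hb]
    | tmul a b => rfl
  have hs : Function.Surjective q := fun y => by
    induction y with
    | zero => exact ⟨0, map_zero _⟩
    | add a b ha hb =>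
      obtain ⟨a', rfl⟩ := ha
      obtain ⟨b', rfl⟩ := hb
      exact ⟨a' + b', map_add _ _ _⟩
    | tmul a b =>
      obtain ⟨b, rfl⟩ := Ideal.Quotient.mk_surjective b
      exact ⟨a ⊗ₜ b, rfl⟩
  have hk : RingHom.ker q = J'.map incK := by
    have h := Algebra.TensorProduct.lTensor_ker (A := K) (R := R) (Ideal.Quotient.mkₐ R J')
      Ideal.Quotient.mk_surjective
    rw [show RingHom.ker (Ideal.Quotient.mkₐ R J') = J' from Ideal.Quotient.mkₐ_ker R J'] at h
    rw [← h]
    ext z
    rw [RingHom.mem_ker, RingHom.mem_ker, hq]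
  rw [← hk]
  exact Comodule.isHopfIdeal_ker q hs

variable {R K A}

theorem counit_incK (x : A) :
    Coalgebra.counit (R := K) ((1 : K) ⊗ₜ[R] x) = algebraMap R K (Coalgebra.counit (R := R) x) := by
  rw [TensorProduct.counit_tmul, CommSemiring.counit_apply, Algebra.smul_def, mul_one]

theorem antipode_incK (x : A) :
    HopfAlgebra.antipode K ((1 : K) ⊗ₜ[R] x) = (1 : K) ⊗ₜ[R] HopfAlgebra.antipode R x := by
  show (HopfAlgebraStruct.antipode (R := K) (A := K ⊗[R] A)) ((1 : K) ⊗ₜ[R] x) = _
  rw [TensorProduct.antipode_def, TensorProduct.AlgebraTensorModule.map_tmul]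
  simp

variable [IsDomain R] [IsFractionRing R K]

/-- The contraction of a Hopf ideal is a Hopf ideal. -/
theorem isHopfIdeal_comap [IsDedekindDomain R] (J : Ideal (K ⊗[R] A)) [J.IsHopfIdeal K] :
    (J.comap incK).IsHopfIdeal R := by
  set J' : Ideal A := J.comap incK with hJ'
  let ι : (A ⧸ J') →ₐ[R] (K ⊗[R] A) ⧸ J :=
    Ideal.Quotient.liftₐ J' ((Ideal.Quotient.mkₐ R J).comp incK) fun a ha => Ideal.Quotient.eq_zero_iff_mem.mpr ha
  have hι : Function.Injective ι := (injective_iff_map_eq_zero ι).mpr fun x hx => by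
    obtain ⟨a, rfl⟩ := Ideal.Quotient.mk_surjective x
    exact Ideal.Quotient.eq_zero_iff_mem.mpr
      (Ideal.Quotient.eq_zero_iff_mem.mp hx : incK a ∈ J)
  haveI : Module.IsTorsionFree R ((K ⊗[R] A) ⧸ J) := Module.IsTorsionFree.trans_faithfulSMul R K _
  haveI : Module.IsTorsionFree R (A ⧸ J') :=
    Function.Injective.moduleIsTorsionFree _ hι (map_smul ι.toLinearMap)
  haveI : Module.Flat R (A ⧸ J') := IsDedekindDomain.flat_iff_torsion_eq_bot.mpr (Submodule.isTorsionFree_iff_torsion_eq_bot.mp inferInstance)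
  haveI : Module.Flat R ((K ⊗[R] A) ⧸ J) := IsDedekindDomain.flat_iff_torsion_eq_bot.mpr (Submodule.isTorsionFree_iff_torsion_eq_bot.mp inferInstance)
  haveI : TensorProduct.CompatibleSMul R K ((K ⊗[R] A) ⧸ J) ((K ⊗[R] A) ⧸ J) :=
    IsLocalization.tensorProduct_compatibleSMul (nonZeroDivisors R) K _ _
  have hsub : (J'.restrictScalars R).IsCoideal := by
    refine Submodule.IsCoideal.mk ?_ ?_
    · intro x hx
      refine IsFractionRing.injective R K ?_
      rw [← counit_incK, map_zero]
      exact Submodule.IsCoideal.counit_eq_zero (I := J.restrictScalars K) hx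
    · intro x hx
      have hmk : (Submodule.restrictScalars R J').mkQ = (Ideal.Quotient.mkₐ R J').toLinearMap := rfl
      rw [hmk]
      let Q := (K ⊗[R] A) ⧸ J
      have h0 : TensorProduct.map (Ideal.Quotient.mkₐ K J).toLinearMap (Ideal.Quotient.mkₐ K J).toLinearMap
          (Coalgebra.comul (R := K) ((1 : K) ⊗ₜ[R] x)) = 0 :=
        Submodule.IsCoideal.map_mkQ_comul_eq_zero (I := J.restrictScalars K) hx
      have h1 := congrArg (TensorProduct.mapOfCompatibleSMul R K R Q Q) h0
      rw [map_zero, TensorProduct.comul_tmul, CommSemiring.comul_apply] at h1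
      change TensorProduct.map _ _ (Coalgebra.comul (R := R) x) = 0
      have hii : Function.Injective (TensorProduct.map ι.toLinearMap ι.toLinearMap) :=
        TensorProduct.map_injective_of_flat_flat _ _ hι hι
      apply hii
      refine Eq.trans ?_ (h1.trans (LinearMap.map_zero _).symm)
      generalize Coalgebra.comul (R := R) x = z
      induction z with
      | zero =>
        simp only [TensorProduct.tmul_zero, map_zero]
        exact LinearMap.map_zero _
      | add a b ha hb =>
        simp only [TensorProduct.tmul_add, map_add]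
        exact (LinearMap.map_add _ _ _).trans (congrArg₂ (· + ·) ha hb)
      | tmul a b => rfl
  exact { hsub with
    antipode_mem := fun x hx => by
      show incK (HopfAlgebra.antipode R x) ∈ J
      rw [Algebra.TensorProduct.includeRight_apply, ← antipode_incK]
      exact Ideal.IsHopfIdeal.antipode_mem (R := K) hx }

theorem exists_smul_eq (z : K ⊗[R] A) : ∃ (r : R) (a : A), r ≠ 0 ∧ algebraMap R K r • z = (1 : K) ⊗ₜ[R] a := by
  induction z with
  | zero => exact ⟨1, 0, one_ne_zero, by simp⟩
  | add p q hp hq =>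
    obtain ⟨r, a, hr, h⟩ := hp
    obtain ⟨s, b, hs, h'⟩ := hq
    refine ⟨r * s, s • a + r • b, mul_ne_zero hr hs, ?_⟩
    rw [TensorProduct.tmul_add, TensorProduct.tmul_smul, TensorProduct.tmul_smul, ← h, ← h', map_mul, smul_add,
      ← algebraMap_smul K s (algebraMap R K r • p), ← algebraMap_smul K r (algebraMap R K s • q), smul_smul, smul_smul,
      mul_comm (algebraMap R K s)]
  | tmul c a =>
    obtain ⟨⟨b, s⟩, h⟩ := IsLocalization.surj (nonZeroDivisors R) c
    refine ⟨s, b • a, nonZeroDivisors.ne_zero s.2, ?_⟩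
    rw [TensorProduct.smul_tmul', smul_eq_mul, mul_comm, h, Algebra.algebraMap_eq_smul_one, TensorProduct.smul_tmul]

theorem map_comap (J : Ideal (K ⊗[R] A)) : (J.comap incK).map incK = J := by
  refine le_antisymm Ideal.map_comap_le fun z hz => ?_
  obtain ⟨r, a, hr, h⟩ := exists_smul_eq z
  have ha : incK a ∈ J := by
    rw [Algebra.TensorProduct.includeRight_apply, ← h, Algebra.smul_def]
    exact J.mul_mem_left _ hz
  have hz' : z = algebraMap K (K ⊗[R] A) (algebraMap R K r)⁻¹ * incK a := by
    rw [Algebra.TensorProduct.includeRight_apply, ← h, ← Algebra.smul_def, smul_smul,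
      inv_mul_cancel₀ (fun h0 => hr (IsFractionRing.injective R K (h0.trans (map_zero _).symm))), one_smul]
  rw [hz']
  exact Ideal.mul_mem_left _ _ (Ideal.mem_map_of_mem _ ha)

theorem comap_map (J' : Ideal A) [Module.Flat R (A ⧸ J')] : (J'.map incK).comap incK = J' := by
  refine le_antisymm (fun x hx => ?_) Ideal.le_comap_map
  have h := Algebra.TensorProduct.lTensor_ker (A := K) (R := R) (Ideal.Quotient.mkₐ R J')
    Ideal.Quotient.mk_surjective
  rw [show RingHom.ker (Ideal.Quotient.mkₐ R J') = J' from Ideal.Quotient.mkₐ_ker R J'] at h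
  rw [Ideal.mem_comap, ← h, RingHom.mem_ker] at hx
  rw [← Ideal.Quotient.eq_zero_iff_mem]
  have hinj := Module.Flat.rTensor_preserves_injective_linearMap (M := A ⧸ J') (Algebra.linearMap R K)
    (IsFractionRing.injective R K)
  apply (TensorProduct.lid R (A ⧸ J')).symm.injective
  apply hinj
  rw [map_zero, map_zero, TensorProduct.lid_symm_apply, LinearMap.rTensor_tmul, Algebra.linearMap_apply, map_one]
  exact hx

end Groth.Agent.HopfSat
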